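import Cfsg.Agent.AltSec.A9b

/-!
# Modules of `A₉` over `𝔽₂`
-/

set_option autoImplicit false
set_option maxRecDepth 4000

namespace Cfsg.Lib.AltSec

variable {V : Type*} [AddCommGroup V] [Module (ZMod 2) V]
  {ρ : Representation (ZMod 2) (Al 9) V}

universe u

theorem sNe : expOK 9 [0x9832107654, 0x9867542310, 0x9854763210] sNS
    [[], [0, 2, 1, 2, 0], [1, 2, 1, 2], [0, 2, 0, 2, 1, 2], [0, 2, 0], [2, 0, 2, 1, 2, 0, 2], [2, 0, 1, 2, 0, 2], [0, 1, 2, 0, 1], [0, 1, 2, 1, 2, 0], [0, 1, 2, 0], [1], [2, 1, 2], [0, 2, 0, 1, 2, 1, 2], [0, 2, 0, 1], [0, 2, 0, 1, 2, 0, 2], [0, 1, 2, 1, 2], [1, 2, 1], [1, 2, 1, 2, 0], [0, 2, 1], [2, 0, 1, 2, 1], [1, 2, 0, 2, 1, 2], [2, 0, 2], [0, 2, 0, 2, 1, 2, 0], [0, 2, 0, 1, 2, 0], [1, 2, 0, 2], [2, 0, 2, 1, 2, 0], [2], [0, 2, 1, 2, 0, 2], [0, 2, 1, 2, 0, 2, 1], [2, 0, 2, 1], [2, 0, 1, 2], [0], [1, 2, 0, 1, 2], [2, 0, 2, 1, 2], [0, 1, 2, 0, 2, 1, 2], [0, 2, 1, 2, 0, 2, 1, 2], [0, 1, 2], [2, 0, 1], [1,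 2, 0], [2, 0, 1, 2, 1, 2], [0, 1], [2, 0], [1, 2], [0, 1, 2, 0, 2], [2, 1], [2, 1, 2, 0, 2], [0, 2], [2, 1, 2, 0], [0, 1, 2, 1, 2, 0, 2], [1, 2, 0, 1], [0, 2, 0, 2], [1, 2, 0, 2, 1], [1, 2, 1, 2, 0, 2], [0, 1, 2, 1], [0, 2, 0, 2, 1, 2, 0, 2], [0, 2, 1, 2], [0, 2, 0, 2, 1], [0, 2, 0, 1, 2], [2, 0, 1, 2, 0], [2, 1, 2, 0, 2, 1, 2], [2, 1, 2, 0, 2, 1], [0, 1, 2, 0, 2, 1], [0, 1, 2, 0, 1, 2], [0, 2, 0, 1, 2, 1]] = true := by decide +kernel

theorem sN (hρ : NoFix ρ) :
    Z ρ [0x9832107654, 0x9867542310, 0x9854763210] := fun v hv0 => by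
  have hv := hv0.exp (by norm_num) sNe
  have hT : Good (phi ρ v sNR) 12 sNTs := good_cons (by norm_num) (by norm_num) hv (sNok _ (by decide)) sNt0
    (good_cons (by norm_num) (by norm_num) hv (sNok _ (by decide)) sNt1
    (good_nil (by norm_num) (by decide +kernel)))
  have a0 : Phi (phi ρ v sNR) 12 1 0 = 0 := Phi_zero
  have b0 : Psi (phi ρ v sNR) 12 15 sNo0 = 0 :=
    (zMA hρ) _ (rel_ok (w := 1) (by norm_num) (by norm_num) (by norm_num) (by norm_num) hv okMA sNr0)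
  have b1 : Psi (phi ρ v sNR) 12 15 sNo1 = 0 :=
    (zMA hρ) _ (rel_ok (w := 1) (by norm_num) (by norm_num) (by norm_num) (by norm_num) hv okMA sNr1)
  have b15 : Psi (phi ρ v sNR) 12 15 sNo15 = 0 :=
    (zMP hρ) _ (rel_ok (w := 1) (by norm_num) (by norm_num) (by norm_num) (by norm_num) hv okMP sNr15)
  have b18 : Psi (phi ρ v sNR) 12 21 sNo18 = 0 :=
    (zMS hρ) _ (rel_ok (w := 1) (by norm_num) (by norm_num) (by norm_num) (by norm_num) hv okMS sNr18)
  have b21 : Psi (phi ρ v sNR) 12 21 sNo21 = 0 :=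
    (zME hρ) _ (rel_ok (w := 1) (by norm_num) (by norm_num) (by norm_num) (by norm_num) hv okME sNr21)
  have b22 : Psi (phi ρ v sNR) 12 21 sNo22 = 0 :=
    (zME hρ) _ (rel_ok (w := 1) (by norm_num) (by norm_num) (by norm_num) (by norm_num) hv okME sNr22)
  have b44 : Psi (phi ρ v sNR) 12 30 sNo44 = 0 :=
    (zMP hρ) _ (rel_ok (w := 1) (by norm_num) (by norm_num) (by norm_num) (by norm_num) hv okMP sNr44)
  have b50 : Psi (phi ρ v sNR) 12 30 sNo50 = 0 :=
    (zMP hρ) _ (rel_ok (w := 1) (by norm_num) (by norm_num) (by norm_num) (by norm_num) hv okMP sNr50)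
  have b150 : Psi (phi ρ v sNR) 12 63 sNo150 = 0 :=
    (zMN hρ) _ (rel_ok (w := 1) (by norm_num) (by norm_num) (by norm_num) (by norm_num) hv okMN sNr150)
  have b153 : Psi (phi ρ v sNR) 12 63 sNo153 = 0 :=
    (zMM hρ) _ (rel_ok (w := 1) (by norm_num) (by norm_num) (by norm_num) (by norm_num) hv okMM sNr153)
  have a1 := seg_ok' pV (by norm_num) (by norm_num) hT sNw1 b0 a0
  have a2 := seg_ok' pV (by norm_num) (by norm_num) hT sNw2 b0 a1
  have a3 := seg_ok' pV (by norm_num) (by norm_num) hT sNw3 b0 a2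
  have a4 := seg_ok' pV (by norm_num) (by norm_num) hT sNw4 b0 a3
  have a5 := seg_ok' pV (by norm_num) (by norm_num) hT sNw5 b1 a4
  have a6 := seg_ok' pV (by norm_num) (by norm_num) hT sNw6 b15 a5
  have a7 := seg_ok' pV (by norm_num) (by norm_num) hT sNw7 b15 a6
  have a8 := seg_ok' pV (by norm_num) (by norm_num) hT sNw8 b18 a7
  have a9 := seg_ok' pV (by norm_num) (by norm_num) hT sNw9 b21 a8
  have a10 := seg_ok' pV (by norm_num) (by norm_num) hT sNw10 b21 a9
  have a11 := seg_ok' pV (by norm_num) (by norm_num) hT sNw11 b22 a10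
  have a12 := seg_ok' pV (by norm_num) (by norm_num) hT sNw12 b44 a11
  have a13 := seg_ok' pV (by norm_num) (by norm_num) hT sNw13 b44 a12
  have a14 := seg_ok' pV (by norm_num) (by norm_num) hT sNw14 b50 a13
  have a15 := seg_ok' pV (by norm_num) (by norm_num) hT sNw15 b150 a14
  have a16 := seg_ok' pV (by norm_num) (by norm_num) hT sNw16 b153 a15
  exact fin_z (by norm_num) (by norm_num) (by norm_num) (by norm_num) (by decide +kernel) (by decide +kernel) a16

theorem okS : InAll (⊤ : Subgroup (Al 9)) [0x9832107654, 0x9876541032, 0x9867543201, 0x9867542310, 0x9854763210, 0x9867453210] :=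
  inAll_top (ls := [[(0, 4), (1, 5), (2, 6), (3, 7)], [(0, 2), (1, 3)], [(0, 1), (6, 7)], [(2, 3), (6, 7)], [(4, 6), (5, 7)], [(4, 5), (6, 7)]]) (by decide +kernel)

theorem zS1 (hρ : NoFix ρ) : Z ρ [0x9867453210, 0x9854763210, 0x9845673210, 0x9867542310, 0x9876452310, 0x9845762310, 0x9854672310, 0x9867543201, 0x9876453201, 0x9845763201, 0x9854673201, 0x9876542301, 0x9867452301, 0x9854762301, 0x9845672301, 0x9876541032, 0x9867451032, 0x9854761032, 0x9845671032, 0x9867540132, 0x9876450132, 0x9845760132, 0x9854670132, 0x9867541023, 0x9876451023, 0x9845761023, 0x9854671023, 0x9876540123, 0x9867450123, 0x9854760123, 0x9845670123] :=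
  ((sN hρ).exp (L := [0x9832107654, 0x9867453210, 0x9854763210, 0x9845673210, 0x9867542310, 0x9876452310, 0x9845762310, 0x9854672310, 0x9867543201, 0x9876453201, 0x9845763201, 0x9854673201, 0x9876542301, 0x9867452301, 0x9854762301, 0x9845672301, 0x9876541032, 0x9867451032, 0x9854761032, 0x9845671032, 0x9867540132, 0x9876450132, 0x9845760132, 0x9854670132, 0x9867541023, 0x9876451023, 0x9845761023, 0x9854671023, 0x9876540123, 0x9867450123, 0x9854760123, 0x9845670123]) (by norm_num) (ws := [[0], [4], [2]])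
    (by decide +kernel)).pstep (by norm_num) (okS _ (by decide)) (by decide +kernel) (u := []) (by decide +kernel)

theorem zS2 (hρ : NoFix ρ) : Z ρ [0x9867453210, 0x9854763210, 0x9845673210, 0x9867542310, 0x9876452310, 0x9845762310, 0x9854672310, 0x9867543201, 0x9876453201, 0x9845763201, 0x9854673201, 0x9876542301, 0x9867452301, 0x9854762301, 0x9845672301] :=
  ((zS1 hρ).exp (L := [0x9876541032, 0x9867453210, 0x9854763210, 0x9845673210, 0x9867542310, 0x9876452310, 0x9845762310, 0x9854672310, 0x9867543201, 0x9876453201, 0x9845763201, 0x9854673201, 0x9876542301, 0x9867452301, 0x9854762301, 0x9845672301]) (by norm_num) (ws := [[1], [2], [3], [4], [5], [6], [7], [8], [9], [10], [11], [12], [13], [14], [15], [0], [0, 1], [0, 2], [0, 3], [0, 4], [0, 5], [0, 6], [0, 7], [0, 8], [0, 9], [0, 10], [0, 11], [0, 12], [0, 13], [0, 14], [0, 15]])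
    (by decide +kernel)).pstep (by norm_num) (okS _ (by decide)) (by decide +kernel) (u := []) (by decide +kernel)

theorem zS3 (hρ : NoFix ρ) : Z ρ [0x9867453210, 0x9854763210, 0x9845673210, 0x9867542310, 0x9876452310, 0x9845762310, 0x9854672310] :=
  ((zS2 hρ).exp (L := [0x9867543201, 0x9867453210, 0x9854763210, 0x9845673210, 0x9867542310, 0x9876452310, 0x9845762310, 0x9854672310]) (by norm_num) (ws := [[1], [2], [3], [4], [5], [6], [7], [0], [0, 1], [0, 3], [0, 2], [0, 4], [0, 5], [0, 7], [0, 6]])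
    (by decide +kernel)).pstep (by norm_num) (okS _ (by decide)) (by decide +kernel) (u := []) (by decide +kernel)

theorem zS4 (hρ : NoFix ρ) : Z ρ [0x9867453210, 0x9854763210, 0x9845673210] :=
  ((zS3 hρ).exp (L := [0x9867542310, 0x9867453210, 0x9854763210, 0x9845673210]) (by norm_num) (ws := [[1], [2], [3], [0], [0, 1], [0, 3], [0, 2]])
    (by decide +kernel)).pstep (by norm_num) (okS _ (by decide)) (by decide +kernel) (u := []) (by decide +kernel)

theorem zS5 (hρ : NoFix ρ) : Z ρ [0x9867453210] :=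
  ((zS4 hρ).exp (L := [0x9854763210, 0x9867453210]) (by norm_num) (ws := [[1], [0], [0, 1]])
    (by decide +kernel)).pstep (by norm_num) (okS _ (by decide)) (by decide +kernel) (u := []) (by decide +kernel)

theorem zS6 (hρ : NoFix ρ) : Z ρ [] :=
  ((zS5 hρ).exp (L := [0x9867453210]) (by norm_num) (ws := [[0]])
    (by decide +kernel)).pstep (by norm_num) (okS _ (by decide)) (by decide +kernel) (u := []) (by decide +kernel)

theorem fx2 : Fx.{u} 2 (Al 9) := fun _ _ _ _ _ hρ v => zS6 hρ v InAll.nil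

end Cfsg.Lib.AltSec
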